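import Mathlib
import Cfsg.Agent.Lib.MCA.P
import Cfsg.Agent.Lib.SL2Elt.Nonsplit
import Cfsg.Agent.Lib.SL2.Invol

/-! Elements of order three in `PSL₂(q)`. -/

set_option autoImplicit false
set_option linter.unusedSectionVars false

namespace H62.FS

open Subgroup H64.SL2 H50.MCA
open scoped MatrixGroups

variable {F : Type*} [Field F]

theorem cube_of_tr {s : SL(2, F)} (h : tr s = -1) : s ^ 3 = 1 := by
  have hd := det_eq s
  have h1 : s 1 1 = -1 - s 0 0 := by rw [← h, tr]; ring
  rw [h1] at hd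
  simp only [pow_succ, pow_zero, one_mul, ent, h1]
  refine ⟨?_, ?_, ?_, ?_⟩
  · linear_combination (1 - s 0 0) * hd
  · linear_combination -(s 0 1) * hd
  · linear_combination -(s 1 0) * hd
  · linear_combination (2 + s 0 0) * hd

theorem tr_ne (h3 : (3 : F) ≠ 0) {s : SL(2, F)} (h : tr s = -1) : tr s ^ 2 ≠ 4 := fun e =>
  h3 (by rw [h] at e; linear_combination -e)

theorem ord_of_tr (h3 : (3 : F) ≠ 0) {s : SL(2, F)} (h : tr s = -1) : orderOf (proj s) = 3 :=
  orderOf_eq_prime (by rw [← map_pow, cube_of_tr h, map_one])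
    fun e => not_mem_center_of_tr (tr_ne h3 h) (proj_eq_one_iff.1 e)

theorem exists_tr {x : PSL(2, F)} (hx : orderOf x = 3) : ∃ s, proj s = x ∧ tr s = -1 := by
  obtain ⟨s, rfl⟩ := proj_surjective x
  have h1 : s ∉ center SL(2, F) := fun e => by
    rw [proj_eq_one_iff.2 e, orderOf_one] at hx; omega
  have h2 := mem_center_iff_entries.1 (orderOf_proj_dvd_iff.1 hx.dvd)
  have hd := det_eq s
  simp only [pow_succ, pow_zero, one_mul, ent] at h2
  have h3 : (tr s - 1) * (tr s + 1) = 0 := by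
    by_contra h
    refine h1 (mem_center_iff_entries.2 ⟨mul_left_cancel₀ h ?_, mul_left_cancel₀ h ?_,
      mul_left_cancel₀ h ?_⟩) <;> rw [tr]
    · linear_combination h2.1 + s 0 1 * hd
    · linear_combination h2.2.1 + s 1 0 * hd
    · linear_combination h2.2.2 + (s 0 0 - s 1 1) * hd
  rcases mul_eq_zero.1 h3 with h | h
  · exact ⟨-s, proj_neg s, by rw [tr_neg]; linear_combination -h⟩
  · exact ⟨s, rfl, by linear_combination h⟩

theorem conj_three [Finite F] (h3 : (3 : F) ≠ 0) {x y : PSL(2, F)} (hx : orderOf x = 3)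
    (hy : orderOf y = 3) : IsConj x y := by
  obtain ⟨s, rfl, hs⟩ := exists_tr hx
  obtain ⟨t, rfl, ht⟩ := exists_tr hy
  exact proj.map_isConj (isConj_of_tr_eq (tr_ne h3 hs) (hs.trans ht.symm))

theorem ord_two (h2 : (2 : F) ≠ 0) {s : SL(2, F)} (h : tr s = 0) : orderOf (proj s) = 2 :=
  orderOf_eq_prime (by rw [← map_pow, sq, mul_self_eq_neg_one_of_tr h, proj_eq_one_iff]
                       exact neg_one_mem_center)
    fun e => not_mem_center_of_tr (fun e => h2 (pow_eq_zero_iff two_ne_zero |>.1 (by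
      rw [h] at e; linear_combination -e))) (proj_eq_one_iff.1 e)

theorem conj_two [Finite F] (h2 : (2 : F) ≠ 0) {x y : PSL(2, F)} (hx : orderOf x = 2)
    (hy : orderOf y = 2) : IsConj x y := by
  have key : ∀ s : SL(2, F), orderOf (proj s) = 2 → tr s = 0 := fun s hs =>
    (mem_center_or_tr_eq_zero_of_sq (by rw [← sq]; exact orderOf_proj_dvd_iff.1 hs.dvd)).resolve_left
      fun e => by rw [proj_eq_one_iff.2 e, orderOf_one] at hs; omega
  obtain ⟨s, rfl⟩ := proj_surjective x
  obtain ⟨t, rfl⟩ := proj_surjective y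
  exact proj.map_isConj (isConj_of_tr_eq (fun e => h2 (pow_eq_zero_iff two_ne_zero |>.1 (by
    rw [key s hx] at e; linear_combination -e))) ((key s hx).trans (key t hy).symm))

theorem exists_four [Finite F] (h2 : (2 : F) ≠ 0) (h3 : (3 : F) ≠ 0) {x : PSL(2, F)}
    (hx : orderOf x = 3) : ∃ t, orderOf t = 2 ∧ (t * x) ^ 3 = 1 := by
  obtain ⟨s, rfl, hs⟩ := exists_tr hx
  obtain ⟨u, h, h'⟩ := exists_tr_eq_and_tr_inv_mul_eq (tr_ne h3 hs) 0 (-1)
  exact ⟨_, ord_two h2 ((tr_inv u).trans h), by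
    rw [← map_mul, ← map_pow, cube_of_tr h', map_one]⟩

theorem card_cent [Finite F] (h2 : (2 : F) ≠ 0) {s : SL(2, F)} (h : tr s ≠ 0) :
    2 * Nat.card (centralizer {proj s}) = Nat.card (centralizer {s}) := by
  have e : centralizer {s} = (centralizer {proj s}).comap proj := by
    ext g
    simp only [mem_comap, mem_centralizer_singleton_iff, ← map_mul, proj_eq_iff]
    refine ⟨Or.inl, fun e => e.resolve_right fun e => h (mul_left_cancel₀ h2 ?_)⟩
    have := tr_conj s g
    rw [e, neg_mul, mul_inv_cancel_right, tr_neg] at this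
    linear_combination -this
  have h1 := (centralizer {s}).card_mul_index
  have h3 := (centralizer {proj s}).card_mul_index
  have h4 := H10.card_center_mul_card_PSL (ι := Fin 2) (R := F)
  have := Fintype.ofFinite F
  have h5 := odd_card_of_two_ne_zero h2
  rw [H10.card_center_SL, Fintype.card_fin, Nat.gcd_eq_left (by
    rw [Nat.card_eq_fintype_card]; omega), ← h1, ← h3, e,
    index_comap_of_surjective _ proj_surjective, ← e, ← mul_assoc] at h4
  exact Nat.eq_of_mul_eq_mul_right (Nat.pos_of_ne_zero index_ne_zero_of_finite) h4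

theorem tr_dd {a : F} (ha : a ≠ 0) (h : a ^ 2 + a + 1 = 0) :
    tr (mk a 0 0 a⁻¹ (by simp [ha])) = -1 := by
  simp only [ent]
  field_simp
  linear_combination h

theorem cent_three [Finite F] (h2 : (2 : F) ≠ 0) (h3 : (3 : F) ≠ 0) {a : F}
    (ha : a ^ 2 + a + 1 = 0) {x : PSL(2, F)} (hx : orderOf x = 3) :
    Nat.card (centralizer {x}) = (Nat.card F - 1) / 2 := by
  obtain ⟨s, rfl, hs⟩ := exists_tr hx
  have a0 : a ≠ 0 := by rintro rfl; simp at ha
  rw [← card_centralizer_of_split (tr_ne h3 hs) (split_of_tr_eq ((tr_dd a0 ha).trans hs.symm)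
    (split_of_10_eq_zero rfl)), ← card_cent h2 (by rw [hs]; simp)]
  simp

theorem exists_frob {p : ℕ} [Fact p.Prime] (h3 : (3 : ZMod p) ≠ 0) {a : ZMod p}
    (ha : a ^ 2 + a + 1 = 0) {x : PSL(2, ZMod p)} (hx : orderOf x = 3) :
    ∃ y, orderOf y = p ∧ x * y * x⁻¹ ∈ zpowers y ∧ x * y ≠ y * x := by
  have a0 : a ≠ 0 := by rintro rfl; simp at ha
  obtain ⟨c, rfl⟩ := isConj_iff.1 (conj_three h3 (ord_of_tr h3 (tr_dd a0 ha)) hx)
  have e := dd_uu a0 1
  have e1 : uu (a * a * 1) = uu 1 ^ (a * a).val := by rw [uu_pow]; simp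
  refine ⟨c * uu 1 * c⁻¹, ?_, ⟨((a * a).val : ℕ), ?_⟩, fun e' => h3 ?_⟩
  · refine ((MulAut.conj c).orderOf_eq _).trans ?_
    exact orderOf_eq_prime (by rw [uu_pow]; simp [uu_zero])
      fun e => one_ne_zero (uu_inj (e.trans uu_zero.symm))
  · simp only [zpow_natCast, conj_pow, ← e1, ← e, dd]
    group
  · rw [conj_mul, conj_mul, mul_left_inj, mul_right_inj] at e'
    rw [dd, e', mul_inv_cancel_right] at e
    have := uu_inj e
    linear_combination (2 - a) * ha + (1 - a) * this

theorem closure_eq_top {p : ℕ} [Fact p.Prime] {T : Subgroup PSL(2, ZMod p)} (h1 : uu 1 ∈ T)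
    (h2 : proj (comp 0) ∈ T) : T = ⊤ := by
  have hu : ∀ t, uu t ∈ T := fun t => by simpa [uu_pow] using pow_mem h1 t.val
  refine eq_top_iff.2 fun g _ => psl_ind (· ∈ T) hu (fun t => ?_) (fun a b => mul_mem) g
  have := mul_mem (mul_mem h2 (hu (-t))) (inv_mem h2)
  rw [uu, ← map_inv, ← map_mul, ← map_mul] at this
  convert this using 1
  exact congrArg proj (by simp [ent, comp])

theorem exists_tri {p : ℕ} [Fact p.Prime] (h2 : (2 : ZMod p) ≠ 0) (h3 : (3 : ZMod p) ≠ 0) :
    ∃ a b : PSL(2, ZMod p), orderOf a = 2 ∧ orderOf b = 3 ∧ orderOf (a * b) = p ∧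
      Subgroup.closure {a, b} = ⊤ := by
  have e : proj (comp 0) * proj ((comp 0)⁻¹ * mk 1 1 0 1 (by simp)) = uu (1 : ZMod p) := by
    rw [← map_mul, mul_inv_cancel_left, uu]
  refine ⟨_, _, ord_two h2 (tr_comp 0), ord_of_tr h3 (s := (comp 0)⁻¹ * mk 1 1 0 1 (by simp))
    (by simp [ent, comp]), ?_, closure_eq_top ?_ (subset_closure (by simp))⟩
  · rw [e]
    exact orderOf_eq_prime (by rw [uu_pow]; simp [uu_zero])
      fun e => one_ne_zero (uu_inj (e.trans uu_zero.symm))
  · rw [← e]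
    exact mul_mem (subset_closure (by simp)) (subset_closure (by simp))

theorem exists_ord [Finite F] {n : ℕ} (hn : n = Nat.card F - 1 ∨ n = Nat.card F + 1) :
    ∃ g : PSL(2, F), Nat.gcd 2 (Nat.card F - 1) * orderOf g = n := by
  have := Fintype.ofFinite F
  obtain ⟨s, hs⟩ : ∃ s : SL(2, F), orderOf s = n := by
    rcases hn with rfl | rfl
    · exact exists_orderOf_eq_card_sub_one
    · exact exists_orderOf_eq_card_add_one
  have h1 := H10.two_le_card_field (F := F)
  refine ⟨proj s, ?_⟩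
  by_cases h2 : (2 : F) = 0
  · have : ¬ Odd (Fintype.card F) := fun h => two_ne_zero_of_odd h h2
    rw [Nat.not_odd_iff_even, ← Nat.card_eq_fintype_card, Nat.even_iff] at this
    rw [orderOf_injective _ (proj_injective_of_two_eq_zero h2), hs,
      (Nat.Prime.coprime_iff_not_dvd Nat.prime_two).2 (by omega), one_mul]
  · have := odd_card_of_two_ne_zero h2
    rw [← Nat.card_eq_fintype_card] at this
    rw [orderOf_proj_of_orderOf_eq_two_mul h2 (m := n / 2) (by omega), Nat.gcd_eq_left (by omega)]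
    omega

end H62.FS
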